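import Cfsg.Agent.H892.EP.TM
import Cfsg.Agent.H396.CommTab2
import Cfsg.Agent.H177.EP.TorTM

/-!
# S4929 [TM-EXC]: moved torus elements of `G₂, F₄, E₆, E₇, E₈` (helper177)
-/

set_option autoImplicit false

namespace Cfsg.Agent.H177.EP

open CoxeterSystem Cfsg.Agent.ChevalleyStructure.CoxeterGeom Cfsg.Agent.Tits.Roots Cfsg.Agent.Tits.Core
  Cfsg.Agent.Nodes.Reps Cfsg.Agent.Nodes.BNOf Cfsg.Agent.Nodes.RGDChev Cfsg.Agent.KFacts.RgdChevCoord
  Cfsg.Agent.Omega.EH3.Kf.Lev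
open Cfsg Cfsg.Lie Cfsg.Agent.H892.EP

theorem tm_of {D : ChevalleyDatum} {l : ℕ} {M : CoxeterMatrix (Fin l)} (hp : IsType D l M) [Nonempty (Fin l)]
    (hD : D ∈ [chevG2, chevB2, chevD4, chevF4, chevE6, chevE7, chevE8]) {F : Type} [Field F] [Fintype F] {r : ℕ}
    [Fact r.Prime] [CharP F r] (hC : r = 2 → CommGen M.toCoxeterSystem hp.isCartan (XX D l F)) :
    HasTM r (Fintype.card F - 1) ↥(D.group F) := by
  obtain ⟨h1, h2, h3⟩ := tor_data hp (K := F) hD r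
  refine ⟨l, M, _, hp.isCartan, TT D F, nc hp F, XX D l F, finite_W hp M.toCoxeterSystem,
    rgd (K := F) hp M.toCoxeterSystem r, G1_eq_top hp _, h1, h2, fun p hpp hp2 hd => h3 p hpp hp2 ?_, hC⟩
  rw [Nat.card_eq_fintype_card]
  exact hd

variable {F : Type} [Field F] [Fintype F] {r : ℕ} [Fact r.Prime] [CharP F r]

theorem exists_elt (hF : 3 ≤ Fintype.card F) : ∃ c : F, c ≠ 0 ∧ c ≠ 1 := by
  classical
  by_contra h
  push Not at h
  have h1 : (Finset.univ : Finset F) ⊆ {0, 1} := by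
    intro c _
    by_cases hc : c = 0
    · simp [hc]
    · simp [h c hc]
  have h2 := Finset.card_le_card h1
  rw [Finset.card_univ] at h2
  have h3 : ({0, 1} : Finset F).card ≤ 2 := Finset.card_le_two
  omega

theorem tm_g2 (hF : 3 ≤ Fintype.card F) : HasTM r (Fintype.card F - 1) ↥(Lie.chevG2.group F) := by
  refine tm_of (l := 2) (M := CoxeterMatrix.G₂) Omega.EH3.Kf.FamG2.isType (by simp) fun hr => ?_
  subst hr
  obtain ⟨a, ha0, ha1⟩ := exists_elt hF
  have h2 : (1 : F) + 1 = 0 := CharTwo.add_self_eq_zero 1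
  refine Cfsg.Agent.H396.CommTab.commGen_G2 F ⟨a, a + 1, ha0, ha1, fun h => ha1 ?_, fun h => ha0 ?_, fun h => ?_⟩
  · linear_combination h - h2
  · linear_combination h
  · apply one_ne_zero (α := F)
    linear_combination -h

theorem tm_f4 (hF : 3 ≤ Fintype.card F) : HasTM r (Fintype.card F - 1) ↥(Lie.chevF4.group F) :=
  tm_of (l := 4) (M := CoxeterMatrix.F₄) Omega.ML.Ex.Lie2.DatF4.isType_F4 (by simp)
    fun _ => Omega.ML.Ex.Lie2.DatF4.commGen_F4 (exists_elt hF)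

theorem tm_sl {D : ChevalleyDatum} {l : ℕ} {M : CoxeterMatrix (Fin l)} (hp : IsType D l M) [Nonempty (Fin l)]
    (hD : D ∈ [chevG2, chevB2, chevD4, chevF4, chevE6, chevE7, chevE8]) (h4 : ∀ i j, M i j ≠ 4)
    (h6 : ∀ i j, M i j ≠ 6) : HasTM r (Fintype.card F - 1) ↥(D.group F) := by
  refine tm_of hp hD fun _ => ?_
  have : Finite M.Group := finite_W hp M.toCoxeterSystem
  exact comm_of_sl (rgd (K := F) hp M.toCoxeterSystem r) (Cfsg.Agent.KFacts.RgdFiltWitt.sl_of_ne h4 h6)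

theorem tm_e6 : HasTM r (Fintype.card F - 1) ↥(Lie.chevE6.group F) :=
  tm_sl (l := 6) (M := CoxeterMatrix.E₆) (by simp [IsType, typeList]) (by simp)
    (fun i j => (Cfsg.Agent.H396.CommTab.lab_E6 i j).1) (fun i j => (Cfsg.Agent.H396.CommTab.lab_E6 i j).2)

theorem tm_e7 : HasTM r (Fintype.card F - 1) ↥(Lie.chevE7.group F) :=
  tm_sl (l := 7) (M := CoxeterMatrix.E₇) (by simp [IsType, typeList]) (by simp)
    (fun i j => (Cfsg.Agent.H396.CommTab.lab_E7 i j).1) (fun i j => (Cfsg.Agent.H396.CommTab.lab_E7 i j).2)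

theorem tm_e8 : HasTM r (Fintype.card F - 1) ↥(Lie.chevE8.group F) :=
  tm_sl (l := 8) (M := CoxeterMatrix.E₈) (by simp [IsType, typeList]) (by simp)
    (fun i j => (Cfsg.Agent.H396.CommTab.lab_E8 i j).1) (fun i j => (Cfsg.Agent.H396.CommTab.lab_E8 i j).2)

end Cfsg.Agent.H177.EP
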